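import Mathlib

/-!
# Non-abelian minimal normal subgroups

A non-abelian minimal normal subgroup `M` of a finite group is the direct product of the conjugates of
one of its minimal normal subgroups, which are non-abelian simple groups.
-/

namespace CfsgLib.CharSimple

open scoped Pointwise

variable {G : Type*} [Group G]

theorem conj_smul_le_of_normal {M S : Subgroup G} (hM : M.Normal) (hS : S ≤ M) (g : G) :
    MulAut.conj g • S ≤ M := by
  rintro _ ⟨x, hx, rfl⟩
  exact hM.conj_mem x (hS hx) g

/-- The elements of the conjugate subgroup. -/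
theorem mem_conj {S : Subgroup G} {g x : G} : x ∈ MulAut.conj g • S ↔ g⁻¹ * x * g ∈ S := by
  rw [Subgroup.mem_pointwise_smul_iff_inv_smul_mem, ← map_inv, MulAut.smul_def, MulAut.conj_apply,
    inv_inv]

/-- `S` is a minimal normal subgroup of `M`. -/
structure IsMinNormalIn (S M : Subgroup G) : Prop where
  le : S ≤ M
  normal : M ≤ Subgroup.normalizer (S : Set G)
  ne_bot : S ≠ ⊥
  min : ∀ L : Subgroup G, L ≤ S → M ≤ Subgroup.normalizer (L : Set G) → L = ⊥ ∨ L = S

theorem exists_isMinNormalIn [Finite G] {M : Subgroup G} (hne : M ≠ ⊥) :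
    ∃ S : Subgroup G, IsMinNormalIn S M := by
  obtain ⟨S, -, ⟨⟨hle, hn⟩, hS⟩, hmin⟩ := Finite.exists_le_minimal
    (p := fun L : Subgroup G => (L ≤ M ∧ M ≤ Subgroup.normalizer (L : Set G)) ∧ L ≠ ⊥) (a := M)
    ⟨⟨le_rfl, Subgroup.le_normalizer⟩, hne⟩
  refine ⟨S, hle, hn, hS, fun L hL hLn => ?_⟩
  by_cases hL0 : L = ⊥
  · exact Or.inl hL0
  · exact Or.inr (le_antisymm hL (hmin ⟨⟨hL.trans hle, hLn⟩, hL0⟩ hL))

theorem IsMinNormalIn.conj {S M : Subgroup G} (h : IsMinNormalIn S M) (hM : M.Normal) (g : G) :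
    IsMinNormalIn (MulAut.conj g • S) M where
  le := conj_smul_le_of_normal hM h.le g
  normal := by
    intro m hm
    rw [Subgroup.mem_normalizer_iff]
    intro x
    have := Subgroup.mem_normalizer_iff.mp (h.normal (hM.conj_mem' m hm g)) (g⁻¹ * x * g)
    rw [mem_conj, mem_conj, this]
    simp [mul_assoc]
  ne_bot := fun h' => h.ne_bot (by
    rw [← inv_smul_smul (MulAut.conj g) S, h', Subgroup.smul_bot])
  min := by
    intro L hL hLn
    have hL' : MulAut.conj g⁻¹ • L ≤ S := by
      rintro _ ⟨x, hx, rfl⟩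
      have := mem_conj.mp (hL hx)
      simpa using this
    have hn' : M ≤ Subgroup.normalizer ((MulAut.conj g⁻¹ • L : Subgroup G) : Set G) := by
      intro m hm
      rw [Subgroup.mem_normalizer_iff]
      intro x
      have := Subgroup.mem_normalizer_iff.mp (hLn (hM.conj_mem m hm g)) (g * x * g⁻¹)
      rw [mem_conj, mem_conj, inv_inv, this]
      simp [mul_assoc]
    have e : MulAut.conj g • (MulAut.conj g⁻¹ • L) = L := by
      rw [smul_smul, ← map_mul, mul_inv_cancel, map_one, one_smul]
    rcases h.min _ hL' hn' with h' | h'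
    · left; rw [← e, h', Subgroup.smul_bot]
    · right; rw [← e, h']

/-- Two minimal normal subgroups of `M` commute unless equal. -/
theorem IsMinNormalIn.commute {S S' M : Subgroup G} (h : IsMinNormalIn S M) (h' : IsMinNormalIn S' M)
    (hne : S ≠ S') {x y : G} (hx : x ∈ S) (hy : y ∈ S') : Commute x y := by
  have hn : M ≤ Subgroup.normalizer ((S ⊓ S' : Subgroup G) : Set G) := by
    intro m hm
    rw [Subgroup.mem_normalizer_iff]
    intro z
    simp only [Subgroup.mem_inf, Subgroup.mem_normalizer_iff.mp (h.normal hm) z,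
      Subgroup.mem_normalizer_iff.mp (h'.normal hm) z]
  have hbot : S ⊓ S' = ⊥ := by
    rcases h.min _ inf_le_left hn with e | e
    · exact e
    · exfalso
      rcases h'.min _ inf_le_right hn with e' | e'
      · exact h.ne_bot (e.symm.trans e')
      · exact hne (e.symm.trans e')
  have hmem : x * y * x⁻¹ * y⁻¹ ∈ S ⊓ S' := by
    refine Subgroup.mem_inf.mpr ⟨?_, ?_⟩
    · have := (Subgroup.mem_normalizer_iff.mp (h.normal (h'.le hy)) x⁻¹).mp (inv_mem hx)
      rw [show x * y * x⁻¹ * y⁻¹ = x * (y * x⁻¹ * y⁻¹) by group]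
      exact mul_mem hx this
    · have := (Subgroup.mem_normalizer_iff.mp (h'.normal (h.le hx)) y).mp hy
      exact mul_mem this (inv_mem hy)
  rw [hbot, Subgroup.mem_bot] at hmem
  exact commutatorElement_eq_one_iff_mul_comm.mp (by rw [commutatorElement_def]; exact hmem)

/-- A copy of `Fin n` without algebraic instances, carrier of the small copy of a finite group. -/
structure Label (n : ℕ) : Type where
  /-- The underlying index. -/
  val : Fin n

/-- A non-abelian minimal normal subgroup is a power of a non-abelian simple group. -/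
theorem exists_equiv_pi [Finite G] {M : Subgroup G} (hM : M.Normal) (hne : M ≠ ⊥)
    (hmin : ∀ L : Subgroup G, L.Normal → L ≤ M → L = ⊥ ∨ L = M) (hnc : ¬ IsMulCommutative M) :
    ∃ (T : Type) (_ : Group T) (_ : Finite T) (m : ℕ), 1 ≤ m ∧ IsSimpleGroup T ∧ ¬ IsMulCommutative T ∧
      Nonempty (M ≃* (Fin m → T)) := by
  classical
  haveI := hM
  obtain ⟨S, hS⟩ := exists_isMinNormalIn hne
  -- the conjugates
  let 𝒮 : Set (Subgroup G) := Set.range fun g : G => MulAut.conj g • S
  have h𝒮 : ∀ T ∈ 𝒮, IsMinNormalIn T M := by rintro _ ⟨g, rfl⟩; exact hS.conj hM g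
  have hS𝒮 : S ∈ 𝒮 := ⟨1, by simp⟩
  have hgen : sSup 𝒮 = M := by
    have hle : sSup 𝒮 ≤ M := sSup_le fun T hT => (h𝒮 T hT).le
    refine (hmin _ ?_ hle).resolve_left fun h => hS.ne_bot ?_
    · constructor
      intro x hx g
      have h1 : (sSup 𝒮).map (MulAut.conj g).toMonoidHom ≤ sSup 𝒮 := by
        rw [Subgroup.map_le_iff_le_comap]
        refine sSup_le ?_
        rintro _ ⟨k, rfl⟩
        rw [← Subgroup.map_le_iff_le_comap]
        exact (le_of_eq (by simp only [map_mul, mul_smul]; rfl)).trans (le_sSup (⟨g * k, rfl⟩ : MulAut.conj (g * k) • S ∈ 𝒮))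
      exact h1 ⟨x, hx, rfl⟩
    · exact eq_bot_iff.mpr (h ▸ le_sSup hS𝒮)
  -- the centre of `M` is trivial
  have hcentre : ∀ x ∈ M, (∀ T ∈ 𝒮, ∀ y ∈ T, Commute x y) → x = 1 := by
    intro x hx hcomm
    have hxC : x ∈ M ⊓ Subgroup.centralizer (M : Set G) := by
      refine ⟨hx, ?_⟩
      rw [← hgen]
      have : sSup 𝒮 ≤ Subgroup.centralizer {x} := sSup_le fun T hT y hy => by
        rw [Subgroup.mem_centralizer_singleton_iff]
        exact (hcomm T hT y hy).symm
      intro y hy
      exact (Subgroup.mem_centralizer_singleton_iff.mp (this hy))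
    rcases hmin (M ⊓ Subgroup.centralizer (M : Set G)) inferInstance inf_le_left with h | h
    · rw [h, Subgroup.mem_bot] at hxC
      exact hxC
    · exfalso
      apply hnc
      refine ⟨⟨fun a b => Subtype.ext ?_⟩⟩
      have hb : (b : G) ∈ M ⊓ Subgroup.centralizer (M : Set G) := by rw [h]; exact b.2
      exact hb.2 a a.2
  have hSnc : ∀ T ∈ 𝒮, ∃ a ∈ T, ∃ b ∈ T, a * b ≠ b * a := by
    intro T hT
    by_contra hc
    push Not at hc
    obtain ⟨z, hz, hz1⟩ := T.bot_or_exists_ne_one.resolve_left (h𝒮 T hT).ne_bot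
    refine hz1 (hcentre z ((h𝒮 T hT).le hz) fun U hU y hy => ?_)
    by_cases h : T = U
    · subst h; exact hc z hz y hy
    · exact (h𝒮 T hT).commute (h𝒮 U hU) h hz hy
  -- independence
  let ι := 𝒮
  let H : ι → Subgroup G := fun T => T.1
  have hcomm : Pairwise fun i j : ι => ∀ x y : G, x ∈ H i → y ∈ H j → Commute x y :=
    fun i j hij x y hx hy => (h𝒮 i i.2).commute (h𝒮 j j.2) (fun h => hij (Subtype.ext h)) hx hy
  have hind : iSupIndep H := by
    intro i
    rw [disjoint_iff, eq_bot_iff]
    rintro x ⟨hxi, hxo⟩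
    rw [Subgroup.mem_bot]
    have hle : (⨆ (j : ι) (_ : j ≠ i), H j) ≤ Subgroup.centralizer (H i : Set G) :=
      iSup₂_le fun j hj y hy => by
        rw [Subgroup.mem_centralizer_iff]
        exact fun z hz => hcomm (Ne.symm hj) z y hz hy
    refine hcentre x ((h𝒮 i i.2).le hxi) fun U hU y hy => ?_
    by_cases h : (i : Subgroup G) = U
    · subst h; exact ((hle hxo) y hy).symm
    · exact (h𝒮 i i.2).commute (h𝒮 U hU) h hxi hy
  haveI : Fintype ι := Fintype.ofFinite ι
  have hrange : (Subgroup.noncommPiCoprod hcomm).range = M := by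
    rw [Subgroup.noncommPiCoprod_range, ← hgen, sSup_eq_iSup']
  let e₁ : (∀ i : ι, H i) ≃* M :=
    (MonoidHom.ofInjective (Subgroup.injective_noncommPiCoprod_of_iSupIndep (hcomm := hcomm) hind)).trans
      (MulEquiv.subgroupCongr hrange)
  -- every factor is isomorphic to `S`
  have he : ∀ i : ι, Nonempty (H i ≃* S) := by
    rintro ⟨_, g, rfl⟩
    exact ⟨(Subgroup.equivSMul (MulAut.conj g) S).symm⟩
  let eT : Label (Nat.card S) ≃ S :=
    { toFun := fun l => (Finite.equivFin S).symm l.val
      invFun := fun s => ⟨Finite.equivFin S s⟩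
      left_inv := fun l => by simp
      right_inv := fun s => by simp }
  let T := Label (Nat.card S)
  letI iT : Group T := eT.group
  haveI : Finite T := Finite.of_equiv _ eT.symm
  let eTS : T ≃* S := eT.mulEquiv
  let ef := Finite.equivFin ι
  let e₂ : (∀ i : ι, H i) ≃* (Fin (Nat.card ι) → T) :=
    { toEquiv := (Equiv.piCongrRight fun i => ((he i).some.trans eTS.symm).toEquiv).trans
        (Equiv.arrowCongr ef (Equiv.refl T))
      map_mul' := fun u v => by
        funext j
        exact map_mul ((he (ef.symm j)).some.trans eTS.symm) (u (ef.symm j)) (v (ef.symm j)) }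
  refine ⟨T, inferInstance, inferInstance, Nat.card ι, ?_, ?_, ?_, ⟨e₁.symm.trans e₂⟩⟩
  · exact (Nat.card_pos_iff.mpr ⟨⟨⟨S, hS𝒮⟩⟩, inferInstance⟩ : 0 < Nat.card ι)
  · haveI : Nontrivial S := (Subgroup.nontrivial_iff_ne_bot S).mpr hS.ne_bot
    haveI : Nontrivial T := eT.nontrivial
    have hsimp : IsSimpleGroup S := by
      constructor
      intro L hL
      have hle : L.map S.subtype ≤ S := Subgroup.map_subtype_le _
      have hn : M ≤ Subgroup.normalizer (L.map S.subtype : Set G) := by
        rw [← hgen]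
        refine sSup_le fun U hU => ?_
        by_cases h : U = S
        · subst h
          intro s hs
          rw [Subgroup.mem_normalizer_iff]
          intro x
          constructor
          · rintro ⟨l, hl, rfl⟩
            exact ⟨⟨s, hs⟩ * l * ⟨s, hs⟩⁻¹, hL.conj_mem l hl _, rfl⟩
          · rintro ⟨l, hl, hlx⟩
            refine ⟨⟨s, hs⟩⁻¹ * l * ⟨s, hs⟩, hL.conj_mem' l hl _, ?_⟩
            simp only [Subgroup.coe_subtype] at hlx
            simp [hlx, mul_assoc]
        · intro u hu
          refine Subgroup.centralizer_le_normalizer _ ?_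
          rw [Subgroup.mem_centralizer_iff]
          exact fun l hl => ((h𝒮 U hU).commute hS h hu (hle hl)).symm
      rcases hS.min _ hle hn with h | h
      · exact Or.inl ((Subgroup.map_eq_bot_iff_of_injective _ S.subtype_injective).mp h)
      · refine Or.inr (Subgroup.map_injective S.subtype_injective ?_)
        rw [h, ← MonoidHom.range_eq_map, Subgroup.range_subtype]
    exact IsSimpleGroup.isSimpleGroup_of_surjective eTS.symm.toMonoidHom eTS.symm.surjective
  · intro h
    obtain ⟨a, ha, b, hb, hne⟩ := hSnc S hS𝒮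
    apply hne
    have := congrArg eTS (h.is_comm.comm (eTS.symm ⟨a, ha⟩) (eTS.symm ⟨b, hb⟩))
    simp only [map_mul, MulEquiv.apply_symm_apply] at this
    exact congrArg Subtype.val this

end CfsgLib.CharSimple
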